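import Groth.Agent.Lib.IdealMul.PowKill
import Groth.Agent.Lib.DPerf.Top

/-!
# Artin–Rees for the homology of complexes of coherent modules
-/

set_option autoImplicit false
set_option maxHeartbeats 800000
set_option linter.style.haveILetI false
set_option backward.isDefEq.respectTransparency false

universe u

open CategoryTheory CategoryTheory.Limits AlgebraicGeometry Opposite

noncomputable section

namespace Groth.Agent.DelAR8

open Groth.Agent.IdealMulL

variable {X : Scheme.{u}}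

theorem surj_app {M N : X.Modules} (hM : Coh.IsQCoh M) (hN : Coh.IsQCoh N) (φ : M ⟶ N) [Epi φ]
    (U : X.affineOpens) : Function.Surjective (φ.app U.1) :=
  M1.app_surjective_affine φ (M1.isQCoh_kernel hM hN φ) U.2

theorem epi_of_surj {M N : X.Modules} (hM : Coh.IsQCoh M) (hN : Coh.IsQCoh N) (φ : M ⟶ N)
    (h : ∀ U : X.affineOpens, Function.Surjective (φ.app U.1)) : Epi φ := by
  haveI := hN
  obtain ⟨c, hc⟩ := exists_lift_affine (𝟙 N) (M1.Sub.im φ) id
    (fun x => by
      obtain ⟨W, hW, hxW, -⟩ := exists_isAffineOpen_mem_and_subset (show x ∈ (⊤ : X.Opens) from trivial)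
      exact ⟨⟨W, hW⟩, hxW⟩)
    fun U m => by
      obtain ⟨a, ha⟩ := h U m
      have e := M1.Sub.im_mem_app φ U.1 a
      rw [ha] at e
      exact e
  haveI : Epi ((M1.Sub.im φ).i) := epi_of_epi_fac hc
  have e : kernel.lift (cokernel.π φ) φ (cokernel.condition φ) ≫ (M1.Sub.im φ).i = φ := kernel.lift_ι _ _ _
  rw [← e]
  exact epi_comp _ _

theorem mem_smul_top_map {A B : X.Modules} (f : A ⟶ B) (U : X.affineOpens) (J : Ideal Γ(X, U.1)) {s : Γ(A, U.1)}
    (hs : s ∈ J • (⊤ : Submodule Γ(X, U.1) Γ(A, U.1))) :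
    f.app U.1 s ∈ J • (⊤ : Submodule Γ(X, U.1) Γ(B, U.1)) := by
  have h : SchDom.appLin f U.1 s ∈ (J • (⊤ : Submodule Γ(X, U.1) Γ(A, U.1))).map (SchDom.appLin f U.1) :=
    Submodule.mem_map_of_mem hs
  rw [Submodule.map_smul''] at h
  exact Submodule.smul_mono le_rfl le_top h

theorem exists_pre {A B : X.Modules} (f : A ⟶ B) (U : X.affineOpens) (J : Ideal Γ(X, U.1)) {t : Γ(B, U.1)}
    (ht : t ∈ J • LinearMap.range (SchDom.appLin f U.1)) :
    ∃ s ∈ J • (⊤ : Submodule Γ(X, U.1) Γ(A, U.1)), f.app U.1 s = t := by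
  refine Submodule.smul_induction_on ht (fun r hr n hn => ?_) (fun t₁ t₂ h₁ h₂ => ?_)
  · obtain ⟨m, rfl⟩ := hn
    exact ⟨r • m, Submodule.smul_mem_smul hr Submodule.mem_top, Scheme.Modules.Hom.app_smul f r m⟩
  · obtain ⟨s₁, hs₁, rfl⟩ := h₁
    obtain ⟨s₂, hs₂, rfl⟩ := h₂
    exact ⟨s₁ + s₂, add_mem hs₁ hs₂, map_add _ s₁ s₂⟩

theorem exists_affine_nhd (x : X) : ∃ W : X.affineOpens, x ∈ W.1 := by
  obtain ⟨W, hW, hxW, -⟩ := exists_isAffineOpen_mem_and_subset (show x ∈ (⊤ : X.Opens) from trivial)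
  exact ⟨⟨W, hW⟩, hxW⟩

variable (I : X.IdealSheafData) (F : CochainComplex X.Modules ℤ)

/-- The complex `I ^ n · F`. -/
abbrev K (n : ℕ) : CochainComplex X.Modules ℤ := (Dual3.deligne I n).obj F

/-- The inclusion. -/
abbrev ιK (n : ℕ) : K I F n ⟶ F := Dual3.deligneι I n F

instance mono_ιK_f (n : ℕ) (q : ℤ) : Mono ((ιK I F n).f q) :=
  inferInstanceAs (Mono (Dual3.idealMulι (I ^ n) (F.X q)))

theorem mono_cyclesMap_ι (n : ℕ) (p : ℤ) : Mono (HomologicalComplex.cyclesMap (ιK I F n) p) := by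
  haveI : Mono (HomologicalComplex.cyclesMap (ιK I F n) p ≫ F.iCycles p) := by
    rw [HomologicalComplex.cyclesMap_i]
    exact mono_comp _ _
  exact mono_of_mono _ (F.iCycles p)

theorem exists_trans (hF : ∀ q, Coh.IsQCoh (F.X q)) {n m : ℕ} (h : m ≤ n) :
    ∃ t : K I F n ⟶ K I F m, t ≫ ιK I F m = ιK I F n := by
  choose ι hι using fun q => @exists_inclusion X I (F.X q) (hF q) m n h
  refine ⟨⟨ι, fun i j _ => ?_⟩, ?_⟩
  · apply (cancel_mono (Dual3.idealMulι (I ^ m) (F.X j))).1
    show (ι i ≫ (Dual3.idealMul (I ^ m)).map (F.d i j)) ≫ _ =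
      ((Dual3.idealMul (I ^ n)).map (F.d i j) ≫ ι j) ≫ _
    rw [Category.assoc, Dual3.idealMul_map_ι, reassoc_of% (hι i), Category.assoc, hι j, Dual3.idealMul_map_ι]
  · ext q : 1
    exact hι q

theorem isQCoh_cycles {E : CochainComplex X.Modules ℤ} (hE : ∀ i, Coh.IsQCoh (E.X i)) (p : ℤ) :
    Coh.IsQCoh (E.cycles p) :=
  M1.isQCoh_of_isIso
    ((kernelIsKernel (E.d p (p + 1))).conePointUniqueUpToIso (E.cyclesIsKernel p (p + 1) (by simp)))
    (M1.isQCoh_kernel (hE _) (hE _) _)

/-- Lifting cycles to the submodule. -/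
def σ (n : ℕ) (p : ℤ) : (Dual3.idealMul (I ^ n)).obj (F.cycles p) ⟶ (K I F n).cycles p :=
  (K I F n).liftCycles ((Dual3.idealMul (I ^ n)).map (F.iCycles p)) (p + 1) (by simp) (by
    show (Dual3.idealMul (I ^ n)).map (F.iCycles p) ≫ (Dual3.idealMul (I ^ n)).map (F.d p (p + 1)) = 0
    rw [← Functor.map_comp, F.iCycles_d, Functor.map_zero])

theorem σ_ι (n : ℕ) (p : ℤ) :
    σ I F n p ≫ HomologicalComplex.cyclesMap (ιK I F n) p = Dual3.idealMulι (I ^ n) (F.cycles p) := by
  rw [← cancel_mono (F.iCycles p), Category.assoc, HomologicalComplex.cyclesMap_i, σ,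
    HomologicalComplex.liftCycles_i_assoc]
  exact Dual3.idealMul_map_ι _ _

variable [IsNoetherian X]

theorem main (hFc : ∀ q : ℤ, Coh.IsCoh (F.X q)) (p : ℤ) :
    ∃ (c : ℕ) (φ : ∀ n : ℕ, (K I F n).homology p ⟶ (Dual3.idealMul (I ^ (n - c))).obj (F.homology p))
      (ψ : ∀ n : ℕ, (Dual3.idealMul (I ^ n)).obj (F.homology p) ⟶ (K I F (n - c)).homology p),
      0 < c ∧
      (∀ n : ℕ, c ≤ n → φ n ≫ Dual3.idealMulι (I ^ (n - c)) (F.homology p) =
        HomologicalComplex.homologyMap (ιK I F n) p) ∧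
      (∀ n : ℕ, c ≤ n → ψ n ≫ HomologicalComplex.homologyMap (ιK I F (n - c)) p =
        Dual3.idealMulι (I ^ n) (F.homology p)) ∧
      (∀ n : ℕ, 2 * c ≤ n → (ψ n ≫ φ (n - c)) ≫ Dual3.idealMulι (I ^ (n - c - c)) (F.homology p) =
        Dual3.idealMulι (I ^ n) (F.homology p)) ∧
      ∀ n : ℕ, 2 * c ≤ n → ∀ t : K I F n ⟶ K I F (n - c - c), t ≫ ιK I F (n - c - c) = ιK I F n →
        φ n ≫ ψ (n - c) = HomologicalComplex.homologyMap t p := by
  classical
  obtain ⟨T, hT⟩ := exists_finite_affine_cover (X := X)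
  have hq : ∀ q, Coh.IsQCoh (F.X q) := fun q => (hFc q).1
  have hKq : ∀ n q, Coh.IsQCoh ((K I F n).X q) := fun n q => isQCoh_idl (F.X q) _ (hq q)
  have hZ := isQCoh_cycles hq p
  have hH := DPerf.isQCoh_homology hq p
  have hZn := fun n => isQCoh_cycles (hKq n) p
  have hHn := fun n => DPerf.isQCoh_homology (hKq n) p
  haveI := hZ; haveI := hH
  let Zs : M1.Sub (F.X p) := ⟨F.cycles p, F.iCycles p, inferInstance⟩
  let d := F.d (p - 1) p
  let Bs : M1.Sub (F.X p) := M1.Sub.im d
  obtain ⟨c₁, hc₁⟩ := exists_artinRees (hFc p) Zs I (fun W : T => W.1)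
  obtain ⟨c₂, hc₂⟩ := exists_artinRees (hFc p) Bs I (fun W : T => W.1)
  let c := c₁ + c₂ + 1
  have hAR : ∀ (n : ℕ) (W : T) (S : M1.Sub (F.X p)) (c₀ : ℕ), c₀ ≤ c → c ≤ n →
      (∀ n, c₀ ≤ n → ∀ k : T, ((I.ideal k.1) ^ n • ⊤ ⊓ secSub S k.1.1 : Submodule Γ(X, k.1.1) Γ(F.X p, k.1.1)) =
        (I.ideal k.1) ^ (n - c₀) • ((I.ideal k.1) ^ c₀ • ⊤ ⊓ secSub S k.1.1)) →
      ∀ s : Γ(F.X p, W.1.1), s ∈ (I.ideal W.1) ^ n • (⊤ : Submodule Γ(X, W.1.1) Γ(F.X p, W.1.1)) →
        s ∈ secSub S W.1.1 → s ∈ (I.ideal W.1) ^ (n - c) • secSub S W.1.1 := fun n W S c₀ h0 hn hc s hs hs' => by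
    have h := (hc n (h0.trans hn) W).le ⟨hs, hs'⟩
    exact Submodule.smul_mono (Ideal.pow_le_pow_right (by omega)) inf_le_right h
  -- the maps `λ`
  have hlam : ∀ n, c ≤ n → ∃ l : (K I F n).cycles p ⟶ (Dual3.idealMul (I ^ (n - c))).obj (F.cycles p),
      l ≫ Dual3.idealMulι (I ^ (n - c)) (F.cycles p) = HomologicalComplex.cyclesMap (ιK I F n) p := fun n hn => by
    haveI := hZn n
    refine exists_lift_affine _ (idl (F.cycles p) (I ^ (n - c))) (fun W : T => W.1) hT fun W z => ?_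
    rw [mem_idl, ideal_pow_apply]
    let w := (HomologicalComplex.cyclesMap (ιK I F n) p).app W.1.1 z
    have h1 : (F.iCycles p).app W.1.1 w ∈ (I.ideal W.1) ^ n • (⊤ : Submodule Γ(X, W.1.1) Γ(F.X p, W.1.1)) := by
      haveI := hq p
      rw [← ideal_pow_apply, ← mem_idl (F.X p) (I ^ n)]
      refine ⟨((K I F n).iCycles p).app W.1.1 z, ?_⟩
      show ((ιK I F n).f p).app W.1.1 _ = _
      rw [← M1.comp_app_apply, ← HomologicalComplex.cyclesMap_i, M1.comp_app_apply]
    obtain ⟨s, hs, hsw⟩ := exists_pre (F.iCycles p) W.1 _ (hAR n W Zs c₁ (by omega) hn hc₁ _ h1 ⟨w, rfl⟩)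
    have e : s = w := M1.app_injective (F.iCycles p) W.1.1 hsw
    show w ∈ _
    rw [← e]
    exact hs
  choose l hl using hlam
  -- the maps `φ`
  have hphi : ∀ n, c ≤ n → ∃ a : (K I F n).homology p ⟶ (Dual3.idealMul (I ^ (n - c))).obj (F.homology p),
      a ≫ Dual3.idealMulι (I ^ (n - c)) (F.homology p) = HomologicalComplex.homologyMap (ιK I F n) p := fun n hn => by
    haveI := hHn n
    refine exists_lift_affine _ (idl (F.homology p) (I ^ (n - c))) (fun W : T => W.1) hT fun W m => ?_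
    obtain ⟨z, rfl⟩ := surj_app (hZn n) (hHn n) ((K I F n).homologyπ p) W.1 m
    rw [mem_idl, ← M1.comp_app_apply, HomologicalComplex.homologyπ_naturality, M1.comp_app_apply]
    refine mem_smul_top_map _ W.1 _ ?_
    rw [← mem_idl, ← hl n hn, M1.comp_app_apply]
    exact ⟨_, rfl⟩
  choose a ha using hphi
  -- the epimorphisms
  let e : ∀ n, (Dual3.idealMul (I ^ n)).obj (F.cycles p) ⟶ (Dual3.idealMul (I ^ n)).obj (F.homology p) :=
    fun n => (Dual3.idealMul (I ^ n)).map (F.homologyπ p)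
  have he : ∀ n, Epi (e n) := fun n => by
    refine epi_of_surj (isQCoh_idl _ _ hZ) (isQCoh_idl _ _ hH) (e n) fun U m => ?_
    have hm := (mem_idl (F.homology p) (I ^ n) U _).1 ⟨m, rfl⟩
    have hr : LinearMap.range (SchDom.appLin (F.homologyπ p) U.1) = ⊤ :=
      LinearMap.range_eq_top.2 (surj_app hZ hH (F.homologyπ p) U)
    rw [← hr] at hm
    obtain ⟨s, hs, hsm⟩ := exists_pre (F.homologyπ p) U _ hm
    obtain ⟨s', rfl⟩ := (mem_idl (F.cycles p) (I ^ n) U s).2 hs
    refine ⟨s', M1.app_injective (Dual3.idealMulι (I ^ n) (F.homology p)) U.1 ?_⟩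
    rw [← M1.comp_app_apply, Dual3.idealMul_map_ι, M1.comp_app_apply]
    exact hsm
  -- transition maps
  choose τ hτ using fun n : ℕ => exists_trans I F hq (Nat.sub_le n c)
  let g : ∀ n, (Dual3.idealMul (I ^ n)).obj (F.cycles p) ⟶ (K I F (n - c)).homology p := fun n =>
    σ I F n p ≫ HomologicalComplex.cyclesMap (τ n) p ≫ (K I F (n - c)).homologyπ p
  have hg : ∀ n, c ≤ n → kernel.ι (e n) ≫ g n = 0 := fun n hn => by
    haveI : Coh.IsQCoh (kernel (e n)) := M1.isQCoh_kernel (isQCoh_idl _ _ hZ) (isQCoh_idl _ _ hH) _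
    obtain ⟨q, hq'⟩ := exists_lift_affine (kernel.ι (e n) ≫ g n) (M1.Sub.ker (𝟙 ((K I F (n - c)).homology p)))
      (fun W : T => W.1) hT fun W m => by
        rw [M1.Sub.mem_ker]
        show (𝟙 ((K I F (n - c)).homology p) : _ ⟶ _).app W.1.1 _ = 0
        rw [← M1.comp_app_apply, Category.comp_id, M1.comp_app_apply]
        let v := (kernel.ι (e n)).app W.1.1 m
        let z := (σ I F n p).app W.1.1 v
        show (HomologicalComplex.cyclesMap (τ n) p ≫ (K I F (n - c)).homologyπ p).app W.1.1 z = 0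
        let w := (Dual3.idealMulι (I ^ n) (F.cycles p)).app W.1.1 v
        have hw : (F.homologyπ p).app W.1.1 w = 0 := by
          rw [← M1.comp_app_apply, ← Dual3.idealMul_map_ι, M1.comp_app_apply, ← M1.comp_app_apply _ (e n),
            kernel.condition]
          exact map_zero _
        -- `w` is a boundary
        haveI : Epi (kernel.lift (F.homologyπ p) (F.toCycles (p - 1) p) (F.toCycles_comp_homologyπ _ _)) :=
          (ShortComplex.exact_of_g_is_cokernel
            (ShortComplex.mk (F.toCycles (p - 1) p) (F.homologyπ p) (F.toCycles_comp_homologyπ _ _))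
            (F.homologyIsCokernel (p - 1) p (by simp))).epi_kernelLift
        obtain ⟨w', hw'⟩ := (M1.Sub.mem_ker (F.homologyπ p) W.1.1 w).2 hw
        obtain ⟨y, hy⟩ := surj_app (hq (p - 1)) (M1.isQCoh_kernel hZ hH _)
          (kernel.lift (F.homologyπ p) (F.toCycles (p - 1) p) (F.toCycles_comp_homologyπ _ _)) W.1 w'
        have hyw : (F.toCycles (p - 1) p).app W.1.1 y = w := by
          rw [← hw', ← hy]
          exact (congrArg (fun χ => χ.app W.1.1 y) (kernel.lift_ι (F.homologyπ p) (F.toCycles (p - 1) p)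
            (F.toCycles_comp_homologyπ _ _)).symm).trans (M1.comp_app_apply _ _ _ _)
        have hdw : d.app W.1.1 y = (F.iCycles p).app W.1.1 w := by
          rw [← hyw, ← M1.comp_app_apply, HomologicalComplex.toCycles_i]
        -- Artin–Rees
        have h1 : (F.iCycles p).app W.1.1 w ∈ (I.ideal W.1) ^ n • (⊤ : Submodule Γ(X, W.1.1) Γ(F.X p, W.1.1)) := by
          refine mem_smul_top_map (F.iCycles p) W.1 _ ?_
          rw [← ideal_pow_apply, ← mem_idl (F.cycles p) (I ^ n)]
          exact ⟨v, rfl⟩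
        have h2 : (F.iCycles p).app W.1.1 w ∈ secSub Bs W.1.1 := hdw ▸ M1.Sub.im_mem_app d W.1.1 y
        have h3 := hAR n W Bs c₂ (by omega) hn hc₂ _ h1 h2
        have hB : secSub Bs W.1.1 = LinearMap.range (SchDom.appLin d W.1.1) := by
          refine le_antisymm ?_ ?_
          · rintro _ ⟨b, rfl⟩
            obtain ⟨b', hb'⟩ := surj_app (hq (p - 1)) (M1.Sub.isQCoh_im d (hq _) (hq _))
              (kernel.lift (cokernel.π d) d (cokernel.condition d)) W.1 b
            refine ⟨b', ?_⟩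
            show d.app W.1.1 b' = Bs.i.app W.1.1 b
            rw [← hb']
            exact (congrArg (fun χ => χ.app W.1.1 b') (kernel.lift_ι (cokernel.π d) d (cokernel.condition d)).symm).trans
              (M1.comp_app_apply _ _ _ _)
          · rintro _ ⟨b, rfl⟩
            exact M1.Sub.im_mem_app d W.1.1 b
        rw [hB] at h3
        obtain ⟨y', hy', hyd⟩ := exists_pre d W.1 _ h3
        haveI := hq (p - 1)
        obtain ⟨y'', hy''⟩ := (mem_idl (F.X (p - 1)) (I ^ (n - c)) W.1 y').2 hy'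
        have key : ((K I F (n - c)).toCycles (p - 1) p).app W.1.1 y'' =
            (HomologicalComplex.cyclesMap (τ n) p).app W.1.1 z := by
          haveI := mono_cyclesMap_ι I F (n - c) p
          apply M1.app_injective (HomologicalComplex.cyclesMap (ιK I F (n - c)) p) W.1.1
          apply M1.app_injective (F.iCycles p) W.1.1
          simp only [← M1.comp_app_apply]
          rw [← HomologicalComplex.cyclesMap_comp, hτ]
          have e₁ : (σ I F n p ≫ HomologicalComplex.cyclesMap (ιK I F n) p) ≫ F.iCycles p =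
              Dual3.idealMulι (I ^ n) (F.cycles p) ≫ F.iCycles p := by rw [σ_ι]
          have e₂ : (((K I F (n - c)).toCycles (p - 1) p ≫ HomologicalComplex.cyclesMap (ιK I F (n - c)) p) ≫
              F.iCycles p) = Dual3.idealMulι (I ^ (n - c)) (F.X (p - 1)) ≫ d := by
            rw [Category.assoc, HomologicalComplex.cyclesMap_i, HomologicalComplex.toCycles_i_assoc]
            exact Dual3.idealMul_map_ι _ _
          refine Eq.trans ?_ (congrArg (fun χ => χ.app W.1.1 v) e₁).symm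
          refine (congrArg (fun χ => χ.app W.1.1 y'') e₂).trans ?_
          rw [M1.comp_app_apply, M1.comp_app_apply]
          exact (congrArg _ hy'').trans hyd
        rw [M1.comp_app_apply, ← key, ← M1.comp_app_apply, HomologicalComplex.toCycles_comp_homologyπ]
        rfl
    rw [← hq', show (M1.Sub.ker (𝟙 ((K I F (n - c)).homology p))).i = 0 from kernel.ι_of_mono _, comp_zero]
  let φ : ∀ n, (K I F n).homology p ⟶ (Dual3.idealMul (I ^ (n - c))).obj (F.homology p) :=
    fun n => if h : c ≤ n then a n h else 0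
  let ψ : ∀ n, (Dual3.idealMul (I ^ n)).obj (F.homology p) ⟶ (K I F (n - c)).homology p :=
    fun n => if h : c ≤ n then (haveI := he n; Abelian.epiDesc (e n) (g n) (hg n h)) else 0
  have hψ : ∀ n, c ≤ n → e n ≫ ψ n = g n := fun n hn => by
    haveI := he n
    simp only [ψ, dif_pos hn]
    exact Abelian.comp_epiDesc _ _ _
  have hψι : ∀ n, c ≤ n → ψ n ≫ HomologicalComplex.homologyMap (ιK I F (n - c)) p =
      Dual3.idealMulι (I ^ n) (F.homology p) := fun n hn => by
    haveI := he n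
    rw [← cancel_epi (e n), ← Category.assoc, hψ n hn]
    simp only [g, e, Category.assoc, HomologicalComplex.homologyπ_naturality, Dual3.idealMul_map_ι]
    rw [← HomologicalComplex.cyclesMap_comp_assoc, hτ, ← Category.assoc, σ_ι]
  have hφι : ∀ n, c ≤ n → φ n ≫ Dual3.idealMulι (I ^ (n - c)) (F.homology p) =
      HomologicalComplex.homologyMap (ιK I F n) p := fun n hn => by
    simp only [φ, dif_pos hn]
    exact ha n hn
  refine ⟨c, φ, ψ, by omega, hφι, hψι, fun n hn => ?_, fun n hn t ht => ?_⟩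
  · rw [Category.assoc, hφι (n - c) (by omega), hψι n (by omega)]
  · have hn' : c ≤ n := by omega
    rw [← cancel_epi ((K I F n).homologyπ p), HomologicalComplex.homologyπ_naturality]
    have h1 : (K I F n).homologyπ p ≫ φ n = l n hn' ≫ e (n - c) := by
      rw [← cancel_mono (Dual3.idealMulι (I ^ (n - c)) (F.homology p)), Category.assoc, hφι n hn',
        HomologicalComplex.homologyπ_naturality, Category.assoc, Dual3.idealMul_map_ι, ← Category.assoc, hl]
    rw [← Category.assoc, h1, Category.assoc, hψ (n - c) (by omega)]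
    have h2 : l n hn' ≫ σ I F (n - c) p ≫ HomologicalComplex.cyclesMap (τ (n - c)) p =
        HomologicalComplex.cyclesMap t p := by
      haveI := mono_cyclesMap_ι I F (n - c - c) p
      rw [← cancel_mono (HomologicalComplex.cyclesMap (ιK I F (n - c - c)) p)]
      simp only [Category.assoc, ← HomologicalComplex.cyclesMap_comp, hτ, ht, σ_ι, hl]
    simp only [g, ← h2, Category.assoc]

end Groth.Agent.DelAR8
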